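import Cfsg.Agent.Lib.LeechP.HS
import Cfsg.Agent.Lib.Schur.CoverC

/-!
# Two generators of `HS` and a stabilizer chain on the 100 points
-/

set_option autoImplicit false
set_option maxRecDepth 100000

namespace Cfsg.Agent.Lib.HSCov.Base

open Cfsg Cfsg.Agent.Lib.PermComp
open Cfsg.Agent.Lib.LeechP.HS (PP rep_c0 rep_c1 card_PP)

def c2_n : Nat := nat_lit 100
def c2_w : Nat := nat_lit 9
def c2_mask : Nat := nat_lit 511
def c2_L : Nat := nat_lit 900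
def c2_maskL : Nat := nat_lit 0xfffffffffffffffffffffffffffffffffffffffffffffffffffffffffffffffffffffffffffffffffffffffffffffffffffffffffffffffffffffffffffffffffffffffffffffffffffffffffffffffffffffffffffffffffffffffffffffffffffffffffffffffffffffffffffffffff
def c2_idc : Nat := nat_lit 0x31988c2602f978ba5c2d968b2582b958aa5429948a250279389a4c259289248239188a442190882401f8f87a3c1d8e872381b8d86a34198c86230178b85a2c158a85228138984a241188842200f8783a1c0d86832180b8582a14098482210078381a0c058281208038180a04018080200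
def c2_T : List Nat := [nat_lit 0x318a458591e9208e5d168bcb0311d95cc24d158a860491e0b8a6262506c2e441a168be50210602c39110a066270c9389e602088464430d0e8bc5c29078461d1f9303e562a188b6512a9006a240e0dc9646128f88a201c0d80e0d070440c020a0100a080902c26090084014000a83c1803, nat_lit 0x1e128745a2696cc224270a01060059640e3e210a45a100a818b8631b0dcba4c258d47639310d07a38198c88a191085858510f8bc543f28100a4300691ca8310503026232b83c0a010b8b8561b0d09492582401040120e000125622178be5313838444f2a9048c1e1300c28430c044041d]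
def c2_prog : List (Nat × Nat × Nat) := [(nat_lit 1, nat_lit 1, nat_lit 0), (nat_lit 1, nat_lit 1, nat_lit 0), (nat_lit 0, nat_lit 3, nat_lit 3), (nat_lit 0, nat_lit 0, nat_lit 3), (nat_lit 0, nat_lit 0, nat_lit 4), (nat_lit 0, nat_lit 0, nat_lit 6), (nat_lit 0, nat_lit 0, nat_lit 7), (nat_lit 0, nat_lit 0, nat_lit 7), (nat_lit 0, nat_lit 0, nat_lit 8), (nat_lit 0, nat_lit 0, nat_lit 10), (nat_lit 0, nat_lit 0, nat_lit 11), (nat_lit 0, nat_lit 0, nat_lit 11), (nat_lit 0, nat_lit 0, nat_lit 12), (nat_lit 0, nat_lit 12, nat_lit 12), (nat_lit 0, nat_lit 0, nat_lit 13), (nat_lit 0, nat_lit 0, nat_lit 13), (nat_lit 0, nat_lit 0, nat_lit 15), (nat_lit 0, nat_lit 0, nat_lit 16), (nat_lit 0, nat_lit 0, nat_lit 5), (nat_lit 0, nat_lit 19, nat_lit 20), (nat_lit 0, nat_lit 0, nat_lit 21), (nat_lit 0, nat_lit 0, nat_lit 21), (nat_lit 0, nat_lit 0, nat_lit 23), (nat_lit 0, nat_lit 0, nat_lit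 24), (nat_lit 0, nat_lit 10, nat_lit 22), (nat_lit 0, nat_lit 0, nat_lit 24), (nat_lit 0, nat_lit 0, nat_lit 25), (nat_lit 0, nat_lit 0, nat_lit 3), (nat_lit 1, nat_lit 9, nat_lit 0), (nat_lit 1, nat_lit 1, nat_lit 0), (nat_lit 0, nat_lit 11, nat_lit 2), (nat_lit 0, nat_lit 1, nat_lit 2), (nat_lit 0, nat_lit 4, nat_lit 4), (nat_lit 0, nat_lit 0, nat_lit 5), (nat_lit 0, nat_lit 0, nat_lit 6), (nat_lit 0, nat_lit 0, nat_lit 16), (nat_lit 0, nat_lit 0, nat_lit 8), (nat_lit 0, nat_lit 0, nat_lit 18), (nat_lit 0, nat_lit 0, nat_lit 19), (nat_lit 0, nat_lit 0, nat_lit 20), (nat_lit 0, nat_lit 0, nat_lit 12), (nat_lit 0, nat_lit 9, nat_lit 12), (nat_lit 0, nat_lit 0, nat_lit 12), (nat_lit 0, nat_lit 0, nat_lit 13), (nat_lit 0, nat_lit 0, nat_lit 15), (nat_lit 0, nat_lit 0, nat_lit 16), (nat_lit 0, nat_lit 0, nat_lit 5), (nat_lit 0, nat_lit 16, nat_lit 19), (nat_lit 0, nat_lit 0, nat_lit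 20), (nat_lit 0, nat_lit 0, nat_lit 21), (nat_lit 0, nat_lit 0, nat_lit 22), (nat_lit 0, nat_lit 0, nat_lit 23), (nat_lit 0, nat_lit 0, nat_lit 33), (nat_lit 0, nat_lit 9, nat_lit 23), (nat_lit 0, nat_lit 0, nat_lit 1), (nat_lit 1, nat_lit 8, nat_lit 0), (nat_lit 1, nat_lit 1, nat_lit 0), (nat_lit 0, nat_lit 2, nat_lit 2), (nat_lit 0, nat_lit 0, nat_lit 11), (nat_lit 0, nat_lit 0, nat_lit 4), (nat_lit 0, nat_lit 13, nat_lit 5), (nat_lit 0, nat_lit 0, nat_lit 6), (nat_lit 0, nat_lit 0, nat_lit 15), (nat_lit 0, nat_lit 0, nat_lit 16), (nat_lit 0, nat_lit 0, nat_lit 9), (nat_lit 0, nat_lit 0, nat_lit 10), (nat_lit 0, nat_lit 9, nat_lit 9), (nat_lit 0, nat_lit 0, nat_lit 10), (nat_lit 0, nat_lit 0, nat_lit 12), (nat_lit 0, nat_lit 0, nat_lit 13), (nat_lit 0, nat_lit 0, nat_lit 13), (nat_lit 0, nat_lit 0, nat_lit 5), (nat_lit 0, nat_lit 25, nat_lit 25), (nat_lit 0, nat_lit 0, nat_lit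 18), (nat_lit 0, nat_lit 0, nat_lit 27), (nat_lit 0, nat_lit 0, nat_lit 28), (nat_lit 0, nat_lit 0, nat_lit 21), (nat_lit 0, nat_lit 0, nat_lit 22), (nat_lit 0, nat_lit 0, nat_lit 23), (nat_lit 0, nat_lit 0, nat_lit 32), (nat_lit 0, nat_lit 10, nat_lit 0), (nat_lit 0, nat_lit 20, nat_lit 34), (nat_lit 0, nat_lit 0, nat_lit 35), (nat_lit 0, nat_lit 15, nat_lit 0), (nat_lit 0, nat_lit 11, nat_lit 37), (nat_lit 0, nat_lit 0, nat_lit 30), (nat_lit 0, nat_lit 0, nat_lit 31), (nat_lit 0, nat_lit 0, nat_lit 32), (nat_lit 0, nat_lit 0, nat_lit 41), (nat_lit 0, nat_lit 0, nat_lit 42), (nat_lit 0, nat_lit 0, nat_lit 35), (nat_lit 0, nat_lit 0, nat_lit 36), (nat_lit 0, nat_lit 0, nat_lit 37), (nat_lit 0, nat_lit 0, nat_lit 46), (nat_lit 0, nat_lit 25, nat_lit 0), (nat_lit 0, nat_lit 37, nat_lit 40), (nat_lit 0, nat_lit 0, nat_lit 49), (nat_lit 0, nat_lit 0, nat_lit 42), (nat_lit 0, nat_lit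 0, nat_lit 43), (nat_lit 0, nat_lit 0, nat_lit 52), (nat_lit 0, nat_lit 0, nat_lit 45), (nat_lit 0, nat_lit 0, nat_lit 46), (nat_lit 0, nat_lit 0, nat_lit 47), (nat_lit 0, nat_lit 47, nat_lit 46), (nat_lit 0, nat_lit 0, nat_lit 48), (nat_lit 0, nat_lit 0, nat_lit 49), (nat_lit 0, nat_lit 0, nat_lit 50), (nat_lit 0, nat_lit 0, nat_lit 50), (nat_lit 0, nat_lit 0, nat_lit 51), (nat_lit 0, nat_lit 0, nat_lit 52), (nat_lit 0, nat_lit 0, nat_lit 7), (nat_lit 0, nat_lit 51, nat_lit 56), (nat_lit 0, nat_lit 0, nat_lit 65), (nat_lit 0, nat_lit 0, nat_lit 58), (nat_lit 0, nat_lit 0, nat_lit 67), (nat_lit 0, nat_lit 0, nat_lit 68), (nat_lit 0, nat_lit 0, nat_lit 61), (nat_lit 0, nat_lit 0, nat_lit 62), (nat_lit 0, nat_lit 0, nat_lit 63), (nat_lit 0, nat_lit 63, nat_lit 63), (nat_lit 0, nat_lit 0, nat_lit 64), (nat_lit 0, nat_lit 0, nat_lit 65), (nat_lit 0, nat_lit 0, nat_lit 65), (nat_lit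 0, nat_lit 0, nat_lit 66), (nat_lit 0, nat_lit 0, nat_lit 5), (nat_lit 0, nat_lit 66, nat_lit 78), (nat_lit 0, nat_lit 0, nat_lit 79), (nat_lit 0, nat_lit 0, nat_lit 72), (nat_lit 0, nat_lit 0, nat_lit 73), (nat_lit 0, nat_lit 0, nat_lit 74), (nat_lit 0, nat_lit 73, nat_lit 0), (nat_lit 0, nat_lit 76, nat_lit 84), (nat_lit 0, nat_lit 0, nat_lit 77), (nat_lit 0, nat_lit 0, nat_lit 86), (nat_lit 0, nat_lit 0, nat_lit 79), (nat_lit 0, nat_lit 0, nat_lit 80), (nat_lit 0, nat_lit 0, nat_lit 81), (nat_lit 0, nat_lit 0, nat_lit 82), (nat_lit 0, nat_lit 0, nat_lit 83), (nat_lit 0, nat_lit 72, nat_lit 0), (nat_lit 1, nat_lit 9, nat_lit 0), (nat_lit 0, nat_lit 30, nat_lit 60), (nat_lit 0, nat_lit 0, nat_lit 70), (nat_lit 0, nat_lit 0, nat_lit 48), (nat_lit 0, nat_lit 0, nat_lit 19), (nat_lit 0, nat_lit 0, nat_lit 61), (nat_lit 0, nat_lit 0, nat_lit 35), (nat_lit 0, nat_lit 6, nat_lit 0),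 (nat_lit 0, nat_lit 17, nat_lit 8), (nat_lit 0, nat_lit 0, nat_lit 77), (nat_lit 0, nat_lit 0, nat_lit 55), (nat_lit 0, nat_lit 0, nat_lit 56)]
def c2_s0 : Nat := nat_lit 0x318a458591e9208e5d168bcb0311d95cc24d158a860491e0b8a6262506c2e441a168be50210602c39110a066270c9389e602088464430d0e8bc5c29078461d1f9303e562a188b6512a9006a240e0dc9646128f88a201c0d80e0d070440c020a0100a080902c26090084014000a83c1803
def c2_s1 : Nat := nat_lit 0x30938b2602d16cb04f2f150ae5d31958a2522817cb8622a94c5a0b1f0189a3c148900e1508108503a25020564715008800c0f8243c04218649230178b0623d170ec900d0a08082461083c8845070886c4c098fc14372585846380d8cc38121a8604a27088140217130686434018e43a00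
def c2_s2 : Nat := nat_lit 0x3018cc25e3117ca8582d144ba522e16cac4e2c93caa502b94c983e201209645239348649211288c3f221047819180b4701c14080641b0b88c160c188e8100a1084c1a10088486614138540c241481c4a030d0980439028bc6e0f0f8d06a221b0f4541e020ac5c091d8b03a160c0380200
def c2_s3 : Nat := nat_lit 0x31988c25f2f180ba5b2d170b0572c9549c4f29140a853289589a4b251309047248f8863f209108a4621100763d1e0d868321d0dc70331c8d4522a170ac6031178b4581e0e09c30281286444161009034260e86c42230b87c1208070440a130304014150a010180b0781c240d018080200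
def c2_s4 : Nat := nat_lit 0x3118cbe612f180b85a2e96ca0522a950ae5829958a24e2c93c964c269288a3f2212080422390c8c3e2092468361c8f46e3c190d470331d0ec260f0b0741403128141c0406818561510048122e0d844460c0f8bc0e1a0806054080f06462210e0985030058b02e14110a44827168080200
noncomputable def c2_lev0 : Core.Lev := Core.mkLev c2_n c2_w c2_mask c2_L c2_maskL c2_idc (nat_lit 0) [c2_s3, c2_s4, c2_s2, c2_s1, c2_s0] [(nat_lit 3, c2_s0, nat_lit 0), (nat_lit 45, c2_s4, nat_lit 3), (nat_lit 24, c2_s2, nat_lit 3), (nat_lit 21, c2_s0, nat_lit 3), (nat_lit 48, c2_s3, nat_lit 45), (nat_lit 10, c2_s4, nat_lit 45), (nat_lit 8, c2_s2, nat_lit 45), (nat_lit 49, c2_s1, nat_lit 45), (nat_lit 35, c2_s0, nat_lit 45), (nat_lit 26, c2_s4, nat_lit 24), (nat_lit 57, c2_s2, nat_lit 24), (nat_lit 55, c2_s1, nat_lit 24), (nat_lit 32, c2_s0, nat_lit 24), (nat_lit 9, c2_s3, nat_lit 21), (nat_lit 42, c2_s4, nat_lit 21), (nat_lit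 7, c2_s0, nat_lit 21), (nat_lit 15, c2_s4, nat_lit 48), (nat_lit 12, c2_s2, nat_lit 48), (nat_lit 92, c2_s0, nat_lit 48), (nat_lit 4, c2_s3, nat_lit 10), (nat_lit 44, c2_s4, nat_lit 10), (nat_lit 43, c2_s2, nat_lit 10), (nat_lit 5, c2_s1, nat_lit 10), (nat_lit 11, c2_s0, nat_lit 10), (nat_lit 20, c2_s4, nat_lit 8), (nat_lit 23, c2_s1, nat_lit 8), (nat_lit 41, c2_s3, nat_lit 49), (nat_lit 19, c2_s4, nat_lit 49), (nat_lit 73, c2_s1, nat_lit 49), (nat_lit 94, c2_s0, nat_lit 49), (nat_lit 37, c2_s3, nat_lit 35), (nat_lit 39, c2_s2, nat_lit 35), (nat_lit 33, c2_s1, nat_lit 35), (nat_lit 85, c2_s0, nat_lit 35), (nat_lit 27, c2_s3, nat_lit 26), (nat_lit 47, c2_s4, nat_lit 26), (nat_lit 38, c2_s2, nat_lit 26), (nat_lit 63, c2_s1, nat_lit 26), (nat_lit 62, c2_s0, nat_lit 26), (nat_lit 52, c2_s3, nat_lit 57), (nat_lit 56, c2_s2, nat_lit 57), (nat_lit 64, c2_s1, nat_lit 57), (nat_lit 79,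 c2_s0, nat_lit 57), (nat_lit 58, c2_s3, nat_lit 55), (nat_lit 50, c2_s4, nat_lit 55), (nat_lit 40, c2_s2, nat_lit 55), (nat_lit 31, c2_s1, nat_lit 55), (nat_lit 65, c2_s0, nat_lit 55), (nat_lit 22, c2_s3, nat_lit 32), (nat_lit 46, c2_s4, nat_lit 32), (nat_lit 36, c2_s2, nat_lit 32), (nat_lit 69, c2_s1, nat_lit 32), (nat_lit 1, c2_s1, nat_lit 9), (nat_lit 59, c2_s1, nat_lit 42), (nat_lit 76, c2_s0, nat_lit 42), (nat_lit 34, c2_s4, nat_lit 7), (nat_lit 6, c2_s3, nat_lit 15), (nat_lit 28, c2_s4, nat_lit 15), (nat_lit 54, c2_s2, nat_lit 15), (nat_lit 53, c2_s1, nat_lit 15), (nat_lit 30, c2_s2, nat_lit 12), (nat_lit 91, c2_s3, nat_lit 92), (nat_lit 90, c2_s4, nat_lit 92), (nat_lit 88, c2_s2, nat_lit 92), (nat_lit 93, c2_s0, nat_lit 92), (nat_lit 13, c2_s3, nat_lit 4), (nat_lit 61, c2_s1, nat_lit 44), (nat_lit 29, c2_s0, nat_lit 44), (nat_lit 18, c2_s3, nat_lit 5), (nat_lit 17, c2_s1,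 nat_lit 11), (nat_lit 16, c2_s4, nat_lit 23), (nat_lit 75, c2_s1, nat_lit 23), (nat_lit 14, c2_s4, nat_lit 41), (nat_lit 72, c2_s1, nat_lit 41), (nat_lit 77, c2_s1, nat_lit 73), (nat_lit 96, c2_s3, nat_lit 94), (nat_lit 95, c2_s2, nat_lit 94), (nat_lit 51, c2_s2, nat_lit 37), (nat_lit 84, c2_s0, nat_lit 39), (nat_lit 68, c2_s1, nat_lit 33), (nat_lit 78, c2_s3, nat_lit 85), (nat_lit 87, c2_s4, nat_lit 85), (nat_lit 86, c2_s2, nat_lit 85), (nat_lit 81, c2_s1, nat_lit 85), (nat_lit 97, c2_s0, nat_lit 85), (nat_lit 82, c2_s0, nat_lit 47), (nat_lit 98, c2_s0, nat_lit 38), (nat_lit 66, c2_s3, nat_lit 63), (nat_lit 74, c2_s1, nat_lit 63), (nat_lit 67, c2_s0, nat_lit 52), (nat_lit 60, c2_s4, nat_lit 56), (nat_lit 70, c2_s3, nat_lit 64), (nat_lit 89, c2_s4, nat_lit 79), (nat_lit 2, c2_s1, nat_lit 58), (nat_lit 25, c2_s1, nat_lit 50), (nat_lit 71, c2_s0, nat_lit 93), (nat_lit 83, c2_s0,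 nat_lit 77), (nat_lit 80, c2_s0, nat_lit 68), (nat_lit 99, c2_s1, nat_lit 87)]
noncomputable def c2_lev1 : Core.Lev := Core.mkLev c2_n c2_w c2_mask c2_L c2_maskL c2_idc (nat_lit 1) [c2_s3, c2_s4, c2_s2, c2_s1] [(nat_lit 29, c2_s1, nat_lit 1), (nat_lit 26, c2_s3, nat_lit 29), (nat_lit 35, c2_s4, nat_lit 29), (nat_lit 37, c2_s2, nat_lit 29), (nat_lit 54, c2_s1, nat_lit 29), (nat_lit 27, c2_s3, nat_lit 26), (nat_lit 47, c2_s4, nat_lit 26), (nat_lit 38, c2_s2, nat_lit 26), (nat_lit 63, c2_s1, nat_lit 26), (nat_lit 32, c2_s4, nat_lit 35), (nat_lit 39, c2_s2, nat_lit 35), (nat_lit 33, c2_s1, nat_lit 35), (nat_lit 24, c2_s3, nat_lit 37), (nat_lit 43, c2_s4, nat_lit 37), (nat_lit 51, c2_s2, nat_lit 37), (nat_lit 65, c2_s1, nat_lit 37), (nat_lit 55, c2_s3, nat_lit 54), (nat_lit 53, c2_s4, nat_lit 54), (nat_lit 9, c2_s1, nat_lit 54), (nat_lit 31, c2_s4, nat_lit 27), (nat_lit 19, c2_s1, nat_lit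 27), (nat_lit 46, c2_s3, nat_lit 47), (nat_lit 22, c2_s4, nat_lit 47), (nat_lit 49, c2_s2, nat_lit 47), (nat_lit 6, c2_s4, nat_lit 38), (nat_lit 18, c2_s2, nat_lit 38), (nat_lit 66, c2_s3, nat_lit 63), (nat_lit 68, c2_s2, nat_lit 63), (nat_lit 74, c2_s1, nat_lit 63), (nat_lit 36, c2_s2, nat_lit 32), (nat_lit 69, c2_s1, nat_lit 32), (nat_lit 28, c2_s3, nat_lit 39), (nat_lit 13, c2_s4, nat_lit 39), (nat_lit 17, c2_s2, nat_lit 39), (nat_lit 20, c2_s1, nat_lit 39), (nat_lit 34, c2_s3, nat_lit 33), (nat_lit 57, c2_s2, nat_lit 24), (nat_lit 58, c2_s4, nat_lit 51), (nat_lit 23, c2_s2, nat_lit 51), (nat_lit 67, c2_s1, nat_lit 51), (nat_lit 70, c2_s4, nat_lit 65), (nat_lit 40, c2_s1, nat_lit 65), (nat_lit 50, c2_s4, nat_lit 55), (nat_lit 56, c2_s3, nat_lit 53), (nat_lit 30, c2_s1, nat_lit 53), (nat_lit 12, c2_s3, nat_lit 9), (nat_lit 41, c2_s2, nat_lit 31), (nat_lit 14, c2_s1, nat_lit 31),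 (nat_lit 44, c2_s1, nat_lit 46), (nat_lit 11, c2_s2, nat_lit 49), (nat_lit 73, c2_s1, nat_lit 49), (nat_lit 7, c2_s3, nat_lit 6), (nat_lit 25, c2_s4, nat_lit 18), (nat_lit 52, c2_s2, nat_lit 18), (nat_lit 21, c2_s1, nat_lit 68), (nat_lit 76, c2_s3, nat_lit 74), (nat_lit 72, c2_s2, nat_lit 74), (nat_lit 64, c2_s4, nat_lit 69), (nat_lit 3, c2_s2, nat_lit 28), (nat_lit 10, c2_s3, nat_lit 13), (nat_lit 42, c2_s2, nat_lit 13), (nat_lit 5, c2_s3, nat_lit 17), (nat_lit 8, c2_s3, nat_lit 20), (nat_lit 15, c2_s2, nat_lit 20), (nat_lit 61, c2_s4, nat_lit 58), (nat_lit 45, c2_s2, nat_lit 58), (nat_lit 2, c2_s1, nat_lit 58), (nat_lit 16, c2_s4, nat_lit 23), (nat_lit 75, c2_s1, nat_lit 23), (nat_lit 71, c2_s4, nat_lit 67), (nat_lit 62, c2_s3, nat_lit 70), (nat_lit 77, c2_s2, nat_lit 70), (nat_lit 4, c2_s4, nat_lit 40), (nat_lit 59, c2_s4, nat_lit 50), (nat_lit 60, c2_s4, nat_lit 56), (nat_lit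 48, c2_s4, nat_lit 12)]
noncomputable def c2_lev2 : Core.Lev := Core.mkLev c2_n c2_w c2_mask c2_L c2_maskL c2_idc (nat_lit 2) [c2_s3, c2_s4, c2_s2] [(nat_lit 14, c2_s2, nat_lit 2), (nat_lit 16, c2_s3, nat_lit 14), (nat_lit 38, c2_s4, nat_lit 14), (nat_lit 61, c2_s2, nat_lit 14), (nat_lit 19, c2_s3, nat_lit 16), (nat_lit 33, c2_s4, nat_lit 16), (nat_lit 34, c2_s2, nat_lit 16), (nat_lit 39, c2_s3, nat_lit 38), (nat_lit 6, c2_s4, nat_lit 38), (nat_lit 18, c2_s2, nat_lit 38), (nat_lit 59, c2_s3, nat_lit 61), (nat_lit 52, c2_s4, nat_lit 61), (nat_lit 60, c2_s2, nat_lit 61), (nat_lit 30, c2_s4, nat_lit 19), (nat_lit 31, c2_s2, nat_lit 19), (nat_lit 9, c2_s4, nat_lit 33), (nat_lit 25, c2_s3, nat_lit 34), (nat_lit 21, c2_s2, nat_lit 34), (nat_lit 28, c2_s3, nat_lit 39), (nat_lit 13, c2_s4, nat_lit 39), (nat_lit 17, c2_s2, nat_lit 39), (nat_lit 7, c2_s3, nat_lit 6), (nat_lit 41, c2_s4,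 nat_lit 6), (nat_lit 44, c2_s2, nat_lit 6), (nat_lit 57, c2_s4, nat_lit 59), (nat_lit 48, c2_s2, nat_lit 59), (nat_lit 51, c2_s3, nat_lit 52), (nat_lit 27, c2_s2, nat_lit 52), (nat_lit 54, c2_s4, nat_lit 60), (nat_lit 36, c2_s3, nat_lit 30), (nat_lit 32, c2_s3, nat_lit 31), (nat_lit 12, c2_s3, nat_lit 9), (nat_lit 23, c2_s4, nat_lit 9), (nat_lit 46, c2_s2, nat_lit 9), (nat_lit 42, c2_s4, nat_lit 21), (nat_lit 55, c2_s2, nat_lit 21), (nat_lit 3, c2_s2, nat_lit 28), (nat_lit 10, c2_s3, nat_lit 13), (nat_lit 40, c2_s4, nat_lit 13), (nat_lit 5, c2_s3, nat_lit 17), (nat_lit 49, c2_s4, nat_lit 17), (nat_lit 53, c2_s2, nat_lit 17), (nat_lit 15, c2_s3, nat_lit 7), (nat_lit 56, c2_s2, nat_lit 57), (nat_lit 58, c2_s4, nat_lit 51), (nat_lit 29, c2_s3, nat_lit 27), (nat_lit 26, c2_s2, nat_lit 27), (nat_lit 20, c2_s2, nat_lit 36), (nat_lit 22, c2_s3, nat_lit 32), (nat_lit 43, c2_s3, nat_lit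 46), (nat_lit 45, c2_s3, nat_lit 42), (nat_lit 50, c2_s4, nat_lit 55), (nat_lit 24, c2_s2, nat_lit 3), (nat_lit 4, c2_s3, nat_lit 10), (nat_lit 11, c2_s2, nat_lit 49), (nat_lit 35, c2_s4, nat_lit 29), (nat_lit 37, c2_s2, nat_lit 29), (nat_lit 47, c2_s4, nat_lit 26), (nat_lit 8, c2_s3, nat_lit 20)]
noncomputable def c2_lev3 : Core.Lev := Core.mkLev c2_n c2_w c2_mask c2_L c2_maskL c2_idc (nat_lit 3) [c2_s3, c2_s4] [(nat_lit 45, c2_s4, nat_lit 3), (nat_lit 48, c2_s3, nat_lit 45), (nat_lit 10, c2_s4, nat_lit 45), (nat_lit 42, c2_s3, nat_lit 48), (nat_lit 15, c2_s4, nat_lit 48), (nat_lit 4, c2_s3, nat_lit 10), (nat_lit 44, c2_s4, nat_lit 10), (nat_lit 5, c2_s4, nat_lit 42), (nat_lit 6, c2_s3, nat_lit 15), (nat_lit 28, c2_s4, nat_lit 15), (nat_lit 13, c2_s3, nat_lit 4), (nat_lit 39, c2_s4, nat_lit 4), (nat_lit 49, c2_s3, nat_lit 44), (nat_lit 18, c2_s3, nat_lit 5), (nat_lit 36, c2_s4,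 nat_lit 5), (nat_lit 7, c2_s3, nat_lit 6), (nat_lit 41, c2_s4, nat_lit 6), (nat_lit 38, c2_s3, nat_lit 28), (nat_lit 12, c2_s4, nat_lit 28), (nat_lit 40, c2_s4, nat_lit 13), (nat_lit 19, c2_s4, nat_lit 49), (nat_lit 17, c2_s3, nat_lit 18), (nat_lit 25, c2_s4, nat_lit 18), (nat_lit 21, c2_s4, nat_lit 36), (nat_lit 34, c2_s4, nat_lit 7), (nat_lit 14, c2_s4, nat_lit 41), (nat_lit 30, c2_s3, nat_lit 40), (nat_lit 33, c2_s3, nat_lit 25), (nat_lit 9, c2_s3, nat_lit 21), (nat_lit 16, c2_s3, nat_lit 14), (nat_lit 23, c2_s4, nat_lit 9)]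
noncomputable def c2_lev4 : Core.Lev := Core.mkLev c2_n c2_w c2_mask c2_L c2_maskL c2_idc (nat_lit 4) [c2_s3] [(nat_lit 13, c2_s3, nat_lit 4), (nat_lit 10, c2_s3, nat_lit 13)]
noncomputable def c2_levels : List Core.Lev := [c2_lev0, c2_lev1, c2_lev2, c2_lev3, c2_lev4]

local notation "RR" => Core.Rep 9 511 (Equiv.refl (Fin 100))

theorem hT : c2_T = [Cfsg.Agent.Lib.LeechP.HS.c0, Cfsg.Agent.Lib.LeechP.HS.c1] := by decide +kernel

theorem hc2 : Core.checkAll 100 9 511 c2_L c2_maskL c2_idc c2_T c2_prog c2_levels = true := by decide +kernel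

theorem hord2 : Core.orderC c2_levels = 44352000 := by decide +kernel

theorem memT {c : ℕ} (hc : c ∈ c2_T) : ∃ g ∈ PP, RR c g := by
  rw [hT] at hc
  simp only [List.mem_cons, List.not_mem_nil, or_false] at hc
  rcases hc with rfl | rfl
  · exact rep_c0
  · exact rep_c1

theorem repT : ∀ c ∈ c2_T, ∃ g, RR c g := fun c hc => by
  obtain ⟨g, -, h⟩ := memT hc
  exact ⟨g, h⟩

theorem main2 : (511 : ℕ) = 2 ^ 9 - 1 ∧ (∀ i < 100, Core.app 9 511 c2_idc i = i) ∧ c2_idc < 2 ^ (100 * 9) ∧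
      Core.Sem 9 511 (Equiv.refl (Fin 100)) c2_L c2_maskL c2_levels ∧
      Core.H 9 511 (Equiv.refl (Fin 100)) c2_T = Core.H 9 511 (Equiv.refl (Fin 100)) (Core.topGens c2_levels) ∧
      Nat.card (Core.H 9 511 (Equiv.refl (Fin 100)) c2_T) = Core.orderC c2_levels :=
  Core.main_of_checkAll repT hc2

theorem card_H : Nat.card (Core.H 9 511 (Equiv.refl (Fin 100)) c2_T) = 44352000 := by
  rw [main2.2.2.2.2.2, hord2]

theorem H_le : Core.H 9 511 (Equiv.refl (Fin 100)) c2_T ≤ PP := by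
  apply (Subgroup.closure_le _).2
  rintro g ⟨c, hc, hg⟩
  obtain ⟨g', hg', h⟩ := memT hc
  rw [hg.unique h]
  exact hg'

theorem H_eq : Core.H 9 511 (Equiv.refl (Fin 100)) c2_T = PP :=
  Subgroup.eq_of_le_of_card_ge H_le (by rw [card_H, card_PP])

theorem hbase {Pts : List ℕ} (hP : ∀ x ∈ c2_levels.map Core.Lev.base, x ∈ Pts) :
    ∀ g ∈ Core.H 9 511 (Equiv.refl (Fin 100)) c2_T,
      (∀ b : Fin 100, ((Equiv.refl (Fin 100) b : Fin 100) : ℕ) ∈ Pts → g b = b) → g = 1 := by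
  intro g hg hfix
  obtain ⟨-, -, -, hsem, hH, -⟩ := main2
  have hg' : g ∈ Core.H 9 511 (Equiv.refl (Fin 100)) (Core.topGens c2_levels) := by
    rw [← hH]; exact hg
  exact Cfsg.Agent.Lib.Schur.CoverC.eq_one_of_fix_base c2_levels hsem g hg' (fun a ha => hfix a (hP _ ha))

end Cfsg.Agent.Lib.HSCov.Base
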